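import Cfsg.Agent.Lib.RuI.Na
import Cfsg.Agent.Lib.RuI.Trans
import Cfsg.Agent.Lib.RuI.Stb
import Cfsg.Agent.Lib.RuI.Lf
import Cfsg.Agent.S2077

/-! # RED: reduction to simple groups (plans/RUI.md) -/

set_option autoImplicit false
set_option synthInstance.maxSize 100000
set_option maxRecDepth 100000

namespace CfsgLib.RuI

open Subgroup CfsgLib.Tech CfsgLib.PComp CfsgLib.W2 CfsgLib.W2.TG CfsgLib.RuG
open Function (Injective Surjective)
open CfsgLib.RuRec (TR T0 InZ2 InZ InW InU InQ InB In1 In2 Md rho sig tau kap pl xh yh ch sh v0 vv AmL AmH Am Gen)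
open scoped commutatorElement

universe u

variable {G : Type u} [Group G] [Finite G] {T T₁ X L M N : Subgroup G} {a b x y r s t g v τ : G}

theorem le_of_normal (hB : HasB T) (h2 : ∀ H : Subgroup G, H.index ≠ 2) (hO : Cfsg.oddCore G = ⊥) [N.Normal]
    (hN : N ≠ ⊥) : T ≤ N := by
  have o := hB.on
  obtain ⟨hs, hf⟩ := o.sig_full h2
  obtain ⟨a, b, x, y, r, s, h⟩ := exists_lf o hs hf
  have hn : ∀ g : G, ∀ u ∈ N, g * u * g⁻¹ ∈ N := fun g u hu => Normal.conj_mem inferInstance u hu g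
  have h1 : N.subgroupOf T ≠ ⊥ := fun e => hN (le_bot_iff.1 (hO ▸ Core.le_pPrimeCore (by
    have := (o.syl.inf_of_le_normalizer (normalizer_eq_top N).ge).not_dvd
    rw [inf_comm, subgroupOf_eq_bot.1 e |>.eq_bot, top_inf_eq, relIndex_bot_left] at this
    exact ((Nat.Prime.coprime_iff_not_dvd Nat.prime_two).2 this).symm)))
  have hz : zt T ∈ N := by
    obtain ⟨u, hu, h3, h4⟩ := Core.exists_mem_center_orderOf_eq o.two h1
    rcases o.mem_Z1_iff.1 (mem_Z1.2 ⟨u.2, fun t ht =>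
      congrArg Subtype.val (mem_center_iff.1 h3 ⟨t, ht⟩).symm⟩) with e | e
    · rw [show u = 1 from Subtype.ext e, orderOf_one] at h4
      omega
    · exact e ▸ hu
  have hV : V T ≤ N := fun v hv => by
    by_cases e : v ∈ Zi T 1
    · rcases o.mem_Z1_iff.1 e with rfl | rfl
      exacts [one_mem _, hz]
    obtain ⟨g, -, -, rfl⟩ := hB.trans (o.Z_le_V (Zi_mono T (by omega) h.a2)) h.a1 hv e
    refine hn g a ?_
    have := hn s⁻¹ _ hz
    rwa [← h.sa, show s⁻¹ * (s * a * s⁻¹) * s⁻¹⁻¹ = a by group] at this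
  have hW : W T ≤ N := by
    have h3 : V T ≤ N ⊓ W T := le_inf hV (V_le T)
    refine (irr o hs hf (lt_of_le_of_ne (o.Z_le_V.trans h3) fun e => ?_) (fun g hg =>
      mem_normalizer_of_forall fun u hu => ⟨hn g u hu.1, conj_mem_of_mem_normalizer hg hu.2⟩)
        inf_le_right).ge.trans inf_le_left
    have := card_le_of_le (e ▸ h3 : V T ≤ Z T)
    rw [hB.card_V, o.card_Z] at this
    omega
  have hA : A T ≤ N := by
    obtain ⟨T₁, c⟩ := hB
    obtain ⟨g, rfl⟩ := o.exists_cj c.on₁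
    rw [← c.sup_eq, W_cj]
    exact sup_le hW (inf_le_left.trans (cj_le_iff.2 fun u hu => hn g u (hW hu)))
  by_contra h3
  refine o.not_fus h2 o.A_lt (fun _ hs _ ht => o.mul_mem_A hs ht) fun t ht g hg => ?_
  by_contra h4
  refine h3 fun u hu => ?_
  by_cases h5 : u ∈ A T
  · exact hA h5
  · exact (N.mul_mem_cancel_right (hn g t (hA ht))).1 (hA ((o.mul_mem_A hu hg).2 (iff_of_false h5 h4)))

theorem iso_of_rec (hR : RecStmt.{u}) (hB : HasB T) (h2 : ∀ H : Subgroup G, H.index ≠ 2)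
    (hO : Cfsg.oddCore G = ⊥) : Cfsg.Spor.IsoRu G := by
  have o := hB.on
  have h0 : ¬ ∀ s ∈ T, ∀ t ∈ T, ⁅s, t⁆ = 1 := fun e =>
    o.A_lt.not_ge fun t ht => mem_A.2 ⟨ht, fun s hs => e t ht s (Zi_le T 3 hs) ▸ one_mem _⟩
  obtain ⟨N, _, hN, -, hm⟩ := Core.exists_minimal_normal_le (K := (⊤ : Subgroup G)) fun e =>
    o.z_ne (e.le (mem_top _))
  have hT : T ≤ N := le_of_normal hB h2 hO hN
  have h1 : ⁅N, N⁆ = N := (hm _ inferInstance (commutator_le_left N N)).resolve_left fun e =>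
    h0 fun s hs t ht => e.le (commutator_mem_commutator (hT hs) (hT ht))
  have h3 : ∀ H : Subgroup N, H.index ≠ 2 := fun H e => by
    have h4 : ⁅N, N⁆ ≤ H.map N.subtype := commutator_le.2 fun u hu v hv =>
      ⟨⁅(⟨u, hu⟩ : N), ⟨v, hv⟩⁆, by
        simp only [SetLike.mem_coe, commutatorElement_def, mul_mem_iff_of_index_two e, inv_mem_iff]; tauto, rfl⟩
    rw [(eq_top_iff' H).2 fun u => (mem_map_iff_mem N.subtype_injective).1 (h4 (h1.ge u.2)), index_top] at e
    omega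
  have h4 : Cfsg.oddCore N = ⊥ := (map_eq_bot_iff_of_injective _ N.subtype_injective).1
    (le_bot_iff.1 (hO ▸ opOf_le_pPrimeCore (Normal.isSubnormal inferInstance)))
  have o' := on_sub o hT
  have hB' : HasB (T.subgroupOf N) := o'.dich.resolve_left fun hs => by
    obtain ⟨_, -⟩ := na_quot o' h3 hs h4
    have h5 : (Cfsg.pCore 2 N).map N.subtype = N :=
      (hm _ (Core.map_pCore_normal N) (map_subtype_le _)).resolve_left fun e =>
        o'.z_ne (((map_eq_bot_iff_of_injective _ N.subtype_injective).1 e).le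
          (Core.le_pCore (o'.two.to_le (W_le _)) (o'.Z_le_W o'.z_memZ)))
    have h6 : IsPGroup 2 N := h5 ▸ (Core.isPGroup_pCore 2 N).map _
    have := h6.isNilpotent
    exact (Core.commutator_self_lt_of_isSolvable hN).ne h1
  have h5 : Cfsg.pElementClosure 2 N = N := (hm _ (pec_normal N) (pec_le N)).resolve_left fun e =>
    o.z_ne (e.le (le_pec_of_isPGroup o.two hT (Zi_le T 1 o.z_mem)))
  have : Nontrivial N := (nontrivial_iff_ne_bot N).2 hN
  have : IsSimpleGroup N := ⟨fun K _ => or_iff_not_imp_left.2 fun hK => pec_eq_self_iff.1 h5 K ‹_›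
    ((Nat.Prime.coprime_iff_not_dvd Nat.prime_two).2 fun e => (o.syl.of_le hT le_top).not_dvd
      (e.trans (index_dvd_of_le (le_of_normal hB' h3 h4 hK)))).symm⟩
  obtain ⟨e⟩ := hR N _ o'
  have h6 : centralizer (N : Set G) = ⊥ := by
    by_contra h6
    exact h0 fun s hs t ht => commutatorElement_eq_one_iff_mul_comm.2
      (le_of_normal hB h2 hO h6 ht s (hT hs))
  have h7 : N = ⊤ := (eq_top_iff' N).2 fun g => by
    have := (Nat.card_eq_one_iff_unique.1 Cfsg.Agent.S2077.result).1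
    obtain ⟨l, hl⟩ := (QuotientGroup.eq_one_iff (MulAut.congr e (MulAut.conjNormal g))).1
      (Subsingleton.elim (_ : Cfsg.Out Cfsg.Spor.Ru) 1)
    have h8 : ((e.symm l : N) : G)⁻¹ * g ∈ centralizer (N : Set G) := fun u hu => by
      have := congrArg (fun α : MulAut Cfsg.Spor.Ru => ((e.symm (α (e ⟨u, hu⟩)) : N) : G)) hl
      simp only [MulAut.conj_apply, map_mul, map_inv, MulEquiv.symm_apply_apply, coe_mul, coe_inv,
        MulAut.congr_apply, MulEquiv.trans_apply, MulAut.conjNormal_apply] at this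
      rw [mul_assoc _ g, ← inv_mul_cancel_right (g * u) g, ← this]
      group
    rw [h6, mem_bot, inv_mul_eq_one] at h8
    exact h8 ▸ (e.symm l).2
  subst h7
  exact ⟨topEquiv.symm.trans e⟩

theorem onan (hR : RecStmt.{u}) (h : On T) (h2 : ∀ H : Subgroup G, H.index ≠ 2) :
    Cfsg.Spor.IsoRu (G ⧸ Cfsg.oddCore G) ∨ ∃ (N : Subgroup G) (_ : N.Normal), N = Cfsg.oddCore G ⊔ W T ∧
      Nonempty (G ⧸ N ≃* GL (Fin 3) (ZMod 2)) := by
  have hs := QuotientGroup.mk'_surjective (Cfsg.oddCore G)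
  have hk : Odd (Nat.card (QuotientGroup.mk' (Cfsg.oddCore G)).ker) := by
    rw [QuotientGroup.ker_mk']
    exact Nat.coprime_two_right.1 (Core.coprime_card_pPrimeCore 2 _)
  have o := on_map h hs hk
  have h3 : ∀ H : Subgroup (G ⧸ Cfsg.oddCore G), H.index ≠ 2 := fun H e =>
    h2 _ ((index_comap_of_surjective H hs).trans e)
  have h4 := Core.pPrimeCore_quotient_pPrimeCore 2 G
  refine o.dich.symm.imp (fun hB => iso_of_rec hR hB h3 h4) fun hc => ?_
  obtain ⟨_, ⟨e⟩⟩ := na_quot o h3 hc h4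
  let φ := e.toMonoidHom.comp ((QuotientGroup.mk' _).comp (QuotientGroup.mk' (Cfsg.oddCore G)))
  refine ⟨φ.ker, inferInstance, ?_, ⟨QuotientGroup.quotientKerEquivOfSurjective φ
    (e.surjective.comp ((QuotientGroup.mk'_surjective _).comp hs))⟩⟩
  rw [← MonoidHom.comap_ker, (MonoidHom.ker_eq_bot_iff _).2 e.injective,
    MonoidHom.comap_bot, ← MonoidHom.comap_ker, QuotientGroup.ker_mk', W_map (injOn_of_odd h hk), comap_map_eq, QuotientGroup.ker_mk',
    sup_comm]

end CfsgLib.RuI
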